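import Groth.Agent.Sga4h.H915.Dict

/-!
# Conversion between `FixPt.endo` and `Dict.endoM`

The two maps are equal by `rfl`, but the kernel needs about a minute to see it (different instance
terms for `HasExt`), so this is isolated here.
-/

set_option autoImplicit false
universe u
open CategoryTheory CategoryTheory.Limits AlgebraicGeometry Opposite Abelian
open scoped Groth.Agent.Etcore.EtInst Groth.Agent.Sga4B.ModEtInst

namespace Groth.Agent.Sga4h.H915.DictConv

open Groth.Agent.Sga4h.H915.Dict

variable {Λ : Type (u + 1)} [CommRing Λ] {X : Scheme.{u}}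

theorem endo_eq_endoM (F : X ⟶ X) [PreservesFiniteLimits (EtModW.pull Λ F)] {L : EtModW.Mod Λ X}
    (v : (EtModW.pull Λ F).obj L ⟶ L) (n : ℕ) : FixPt.endo F v n = endoM F v n := rfl

end Groth.Agent.Sga4h.H915.DictConv
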