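import Groth.Prelude.Def_FixPt
import Mathlib.LinearAlgebra.Trace
import Mathlib.LinearAlgebra.Dimension.Finrank
import Mathlib.Algebra.Module.ULift
import Mathlib.Algebra.Algebra.Basic

/-!
# Traces and change of the coefficient ring along a ring isomorphism
-/

set_option autoImplicit false

namespace Groth.Agent.Sga4h.H915.TraceConv

section

variable {R R' : Type*} [CommRing R] [CommRing R'] (σ : R ≃+* R')
variable {M : Type*} [AddCommGroup M] [Module R M] [Module R' M]
  (h : ∀ (c : R) (x : M), σ c • x = c • x)

include h in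
/-- Traces over isomorphic coefficient rings agree. -/
theorem trace_mapCoeffs (g : M →ₗ[R] M) (g' : M →ₗ[R'] M) (hg : ∀ x, g x = g' x) :
    LinearMap.trace R' M g' = σ (LinearMap.trace R M g) := by
  classical
  by_cases H : ∃ s : Finset M, Nonempty (Module.Basis s R M)
  · obtain ⟨s, ⟨b⟩⟩ := H
    rw [LinearMap.trace_eq_matrix_trace R b g, LinearMap.trace_eq_matrix_trace R' (b.mapCoeffs σ h) g']
    rw [Matrix.trace, Matrix.trace, map_sum]
    refine Finset.sum_congr rfl fun i _ => ?_
    rw [Matrix.diag_apply, Matrix.diag_apply, LinearMap.toMatrix_apply, LinearMap.toMatrix_apply,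
      Module.Basis.mapCoeffs_apply, ← hg]
    rfl
  · have H' : ¬ ∃ s : Finset M, Nonempty (Module.Basis s R' M) := by
      rintro ⟨s, ⟨b⟩⟩
      exact H ⟨s, ⟨b.mapCoeffs σ.symm fun c x => by rw [← h, RingEquiv.apply_symm_apply]⟩⟩
    rw [LinearMap.trace, LinearMap.trace, dif_neg H, dif_neg H', LinearMap.zero_apply,
      LinearMap.zero_apply, map_zero]

end

section

variable {R R' : Type*} [CommRing R] [CommRing R'] (σ : R ≃+* R')
variable {V : Type*} [AddCommGroup V] [Module R' V] {W : Type*} [AddCommGroup W] [Module R W]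
  (e : V ≃+ W) (he : ∀ (r : R) (x : V), e (σ r • x) = r • e x)

include he in
/-- Transport of traces along a semilinear isomorphism. -/
theorem trace_semi (g : W →ₗ[R] W) (f : V →ₗ[R'] V) (hf : ∀ x, e (f x) = g (e x)) :
    LinearMap.trace R' V f = σ (LinearMap.trace R W g) := by
  let : Module R V := Module.compHom V (σ : R →+* R')
  have hs : ∀ (c : R) (x : V), σ c • x = c • x := fun _ _ => rfl
  let e' : V ≃ₗ[R] W := { e with map_smul' := fun r x => he r x }
  let f₀ : V →ₗ[R] V :=
    { toFun := f, map_add' := map_add f, map_smul' := fun r x => map_smul f (σ r) x }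
  rw [trace_mapCoeffs σ hs f₀ f (fun _ => rfl)]
  congr 1
  have h1 : f₀ = e'.symm.conj g := by
    ext x
    rw [LinearEquiv.conj_apply]
    change f x = e'.symm (g (e'.symm.symm x))
    rw [LinearEquiv.symm_symm]
    change f x = e.symm (g (e x))
    rw [← hf, AddEquiv.symm_apply_apply]
  rw [h1, LinearMap.trace_conj']

include he in
/-- If `f` corresponds to a linear map it is linear. -/
theorem exists_linear (g : W →ₗ[R] W) (f : V →+ V) (hf : ∀ x, e (f x) = g (e x)) :
    ∃ f' : V →ₗ[R'] V, (f' : V → V) = f := by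
  refine ⟨{ toFun := f, map_add' := map_add f, map_smul' := fun r x => ?_ }, rfl⟩
  apply e.injective
  have hr : r = σ (σ.symm r) := (σ.apply_symm_apply r).symm
  rw [RingHom.id_apply, hf, hr, he, he, map_smul, hf]

end

section

variable {R R' : Type*} [CommRing R] [CommRing R'] (σ : R ≃+* R')
variable {V : Type*} [AddCommGroup V] [Module R' V] {W : Type*} [AddCommGroup W] [Module R W]
  (e : V ≃+ W) (he : ∀ (r : R) (x : V), e (σ r • x) = r • e x)

include he in
/-- Transport of `FixPt.trAdd` along a semilinear isomorphism. -/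
theorem trAdd_semi (g : W →ₗ[R] W) (f : V →+ V) (hf : ∀ x, e (f x) = g (e x)) :
    FixPt.trAdd R' V f = σ (LinearMap.trace R W g) := by
  have h := exists_linear σ e he g f hf
  rw [FixPt.trAdd, dif_pos h]
  apply trace_semi σ e he
  intro x
  rw [Classical.choose_spec h, hf]

end

end Groth.Agent.Sga4h.H915.TraceConv
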