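import Groth.Prelude.Def_FinFr
import Groth.Agent.Sga4h.H915.DictConst
import Groth.Agent.Sga4h.H915.DictConv
import Groth.Agent.Sga4h.H915.TraceConv

/-!
# `FixPt.endo` on `Ext^n(Λ_X, Λ_X)` and `FinFr.endConst` on `H^n(X, Λ)`

For `Λ : Type` and `Λ' = ULift Λ`: the trace of `FixPt.endo F (pullUnit F)` (through `FixPt.trAdd`) is
the trace of `FinFr.endConst F`.
-/

set_option autoImplicit false
universe u
open CategoryTheory CategoryTheory.Limits AlgebraicGeometry Opposite Abelian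
open Groth.Agent.Etrest.ModAb Groth.Agent.EtpbcA
open Groth.Agent.Etcore Groth.Agent.Etcore.EtInst Groth.Agent.Etcore.HpullCalc
open scoped Groth.Agent.Etcore.EtInst Groth.Agent.Sga4B.ModEtInst

namespace Groth.Agent.Sga4h.H915.DictEnd

open Groth.Agent.Sga4h.H915.Dict Groth.Agent.Sga4h.H915.DictConst

variable (Λ : Type) [CommRing Λ] {X : Scheme.{u}}

/-- `FinFr.endConst` through `resC`. -/
theorem endConst_eq [Fact FinFr.PullExact.{u}]
    (F : X ⟶ X) [PreservesFiniteLimits (EtCoh.pull F)] (n : ℕ)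
    (x : HH X (cA (ULift.{u + 1} Λ) X) n) :
    FinFr.endConst (Λ := Λ) F n x = resC (AddCommGrpCat.of (ULift.{u + 1} Λ)) F n x := rfl

/-- The scalar action on `H^n(X, Λ)`. -/
theorem smul_eq (n : ℕ) (r : Λ) (x : EtCoh.H X (FinFr.constLam Λ X).carrier n) :
    r • x = HHmap ((constantSheaf X.smallEtaleTopology AddCommGrpCat.{u + 1}).map
      (AddCommGrpCat.ofHom (DistribSMul.toAddMonoidHom (ULift.{u + 1} Λ) (ULift.up.{u + 1} r)))) n x := rfl

/-- **Traces of `FixPt.endo` and `FinFr.endConst` agree** (constant coefficients). -/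
theorem trAdd_endo [Fact FinFr.PullExact.{u}] (F : X ⟶ X)
    [PreservesFiniteLimits (EtModW.pull (ULift.{u + 1} Λ) F)] [PreservesFiniteLimits (EtCoh.pull F)]
    (n : ℕ) :
    FixPt.trAdd (ULift.{u + 1} Λ) (FixPt.HM (ULift.{u + 1} Λ) X (FixPt.unit (ULift.{u + 1} Λ) X) n)
      (FixPt.endo F (FixPt.pullUnit (Λ := ULift.{u + 1} Λ) F).hom n) =
    ULift.up.{u + 1} (LinearMap.trace Λ _ (FinFr.endConst (Λ := Λ) F n)) := by
  rw [DictConv.endo_eq_endoM]
  refine TraceConv.trAdd_semi (R := Λ) (R' := ULift.{u + 1} Λ) (ULift.ringEquiv.{0, u + 1}.symm)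
    (V := MH (ULift.{u + 1} Λ) (FixPt.unit (ULift.{u + 1} Λ) X) n)
    (W := EtCoh.H X (FinFr.constLam Λ X).carrier n)
    (cmpC (Λ := ULift.{u + 1} Λ) (X := X) n) (fun r x => ?_) (FinFr.endConst (Λ := Λ) F n)
    (endoM F (FixPt.pullUnit (Λ := ULift.{u + 1} Λ) F).hom n) (fun x => ?_)
  · exact (cmpC_smul n (ULift.up r) x).trans (smul_eq Λ n r _).symm
  · exact (cmpC_res F n x).trans (endConst_eq Λ F n _).symm

/-- **Lefschetz numbers agree** (constant coefficients). -/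
theorem lefNum_endo [Fact FinFr.PullExact.{u}] (F : X ⟶ X)
    [PreservesFiniteLimits (EtModW.pull (ULift.{u + 1} Λ) F)] [PreservesFiniteLimits (EtCoh.pull F)] :
    FixPt.lefNum (FixPt.unit (ULift.{u + 1} Λ) X)
      (FixPt.endo F (FixPt.pullUnit (Λ := ULift.{u + 1} Λ) F).hom) =
    ULift.up.{u + 1} (∑ᶠ i : ℕ, (-1 : Λ) ^ i * LinearMap.trace Λ _ (FinFr.endConst (Λ := Λ) F i)) := by
  have h := (ULift.ringEquiv.{0, u + 1} (R := Λ)).symm.toAddEquiv.map_finsum
    (fun i : ℕ => (-1 : Λ) ^ i * LinearMap.trace Λ _ (FinFr.endConst (Λ := Λ) F i))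
  refine Eq.trans ?_ h.symm
  refine finsum_congr fun i => ?_
  rw [trAdd_endo Λ F i]
  have h2 := map_mul (ULift.ringEquiv.{0, u + 1} (R := Λ)).symm ((-1 : Λ) ^ i)
    (LinearMap.trace Λ _ (FinFr.endConst (Λ := Λ) F i))
  refine Eq.trans ?_ h2.symm
  rw [map_pow, map_neg, map_one]
  rfl

end Groth.Agent.Sga4h.H915.DictEnd
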