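import Groth.Agent.Sga4h.H911.FixFin
import Mathlib.AlgebraicGeometry.Morphisms.Flat

/-!
# Rational points are the geometric points fixed by the arithmetic Frobenius

`k` finite, `K/k` algebraic: `equiv : RatPt a ≃ FixPts k K a 1`.
-/

set_option autoImplicit false
universe u
open CategoryTheory CategoryTheory.Limits AlgebraicGeometry

namespace Groth.Agent.Sga4h.H915.RatFix

open Groth.Agent.Sga4h.H911.PtCount

variable (k K : Type u) [Field k] [Fintype k] [Field K] [Algebra k K] [Algebra.IsAlgebraic k K]
  {Y : Scheme.{u}} (a : Y ⟶ Spec (CommRingCat.of k))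

/-- The geometric point of a rational point. -/
noncomputable def toFix (x : FinFr.RatPt a) : FixPts k K a 1 :=
  ⟨FinFr.specι k K ≫ x.1, by
    constructor
    · rw [Category.assoc, x.2, Category.comp_id]
    · rw [← Category.assoc, FinFr.specMap_algEquiv_comp_specι]⟩

theorem toFix_injective : Function.Injective (toFix k K a) := by
  intro x y h
  have h1 : FinFr.specι k K ≫ x.1 = FinFr.specι k K ≫ y.1 := congrArg Subtype.val h
  have hf : Flat (FinFr.specι k K) := by
    rw [FinFr.specι, HasRingHomProperty.Spec_iff (P := @Flat)]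
    change (algebraMap k K).Flat
    rw [RingHom.flat_algebraMap_iff]
    infer_instance
  have hs : Surjective (FinFr.specι k K) := by
    refine ⟨fun z => ⟨IsLocalRing.closedPoint K, ?_⟩⟩
    exact Subsingleton.elim (α := PrimeSpectrum k) _ _
  have he : Epi (FinFr.specι k K) := Flat.epi_of_flat_of_surjective _
  exact Subtype.ext ((cancel_epi (FinFr.specι k K)).1 h1)

theorem toFix_surjective : Function.Surjective (toFix k K a) := by
  intro y
  obtain ⟨⟨x, φ⟩, rfl⟩ := (toPt_bijective k K a 1).2 y
  let := resAlg k a x
  have h1 : Module.finrank k (Y.residueField x : Type u) ∣ 1 :=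
    dvd_of_fix k (Y.residueField x : Type u) K one_pos φ
  have h2 : Module.finrank k (Y.residueField x : Type u) = 1 := Nat.dvd_one.1 h1
  have h3 : Function.Bijective (algebraMap k (Y.residueField x : Type u)) :=
    ⟨(algebraMap k _).injective, by
      intro z
      obtain ⟨c, hc⟩ := (finrank_eq_one_iff_of_nonzero' (1 : (Y.residueField x : Type u)) one_ne_zero).1 h2 z
      exact ⟨c, by rw [← hc, Algebra.smul_def, mul_one]⟩⟩
  have h4 : IsIso (resHom k a x) := (ConcreteCategory.isIso_iff_bijective (resHom k a x)).2 h3
  refine ⟨⟨Spec.map (inv (resHom k a x)) ≫ Y.fromSpecResidueField x, ?_⟩, ?_⟩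
  · rw [Category.assoc, ← specMap_resHom, ← Spec.map_comp, IsIso.hom_inv_id, Spec.map_id]
  · apply Subtype.ext
    change FinFr.specι k K ≫ Spec.map (inv (resHom k a x)) ≫ Y.fromSpecResidueField x =
      Spec.map (CommRingCat.ofHom (φ.1 : (Y.residueField x : Type u) →+* K)) ≫ Y.fromSpecResidueField x
    have h5 : resHom k a x ≫ CommRingCat.ofHom (φ.1 : (Y.residueField x : Type u) →+* K) =
        CommRingCat.ofHom (algebraMap k K) := by
      ext c
      exact φ.1.commutes c
    rw [FinFr.specι, ← h5, Spec.map_comp, Category.assoc, ← Category.assoc (Spec.map (resHom k a x)),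
      ← Spec.map_comp, IsIso.inv_hom_id, Spec.map_id, Category.id_comp]
    rfl

/-- Rational points are the geometric points fixed by the arithmetic Frobenius. -/
noncomputable def equiv : FinFr.RatPt a ≃ FixPts k K a 1 :=
  Equiv.ofBijective (toFix k K a) ⟨toFix_injective k K a, toFix_surjective k K a⟩

theorem natCard_fixPts_one : Nat.card (FixPts k K a 1) = Nat.card (FinFr.RatPt a) :=
  (Nat.card_congr (equiv k K a)).symm

theorem finite_ratPt [LocallyOfFiniteType a] [QuasiCompact a] : Finite (FinFr.RatPt a) := by
  have := H911.FixFin.finite_fixPts k k a one_pos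
  exact Finite.of_injective _ (toFix_injective k k a)

end Groth.Agent.Sga4h.H915.RatFix
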