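import Groth.Agent.Sga4h.H915.FrobEnd
import Groth.Agent.Sga4h.H915.DictEnd
import Groth.Agent.Sga4h.H915.RatFix
import Groth.Agent.Etrest.ModCons
import Groth.Agent.S0101

/-!
# The trace formula for powers of the geometric Frobenius on smooth proper curves

Conditional on the Lefschetz fixed point formula `LefFor K Λ` for smooth proper curves over the
algebraically closed field `K` with coefficients `Λ` (for `Λ` a field this is S4230).
-/

set_option autoImplicit false
universe u
open CategoryTheory CategoryTheory.Limits AlgebraicGeometry Opposite Abelian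
open Groth.Agent.Etcore.EtInst Groth.Agent.Sga4h.H911.PtCount
open scoped Groth.Agent.Etcore.EtInst Groth.Agent.Sga4B.ModEtInst

namespace Groth.Agent.Sga4h.H915.CurveCase

/-- The fixed `k`-points of an endomorphism `F` of `f : X ⟶ Spec k`. -/
abbrev FixK {k : Type u} [Field k] {X : Scheme.{u}} (f : X ⟶ Spec (CommRingCat.of k)) (F : X ⟶ X) : Type u :=
  {ξ : Spec (CommRingCat.of k) ⟶ X // ξ ≫ f = 𝟙 _ ∧ ξ ≫ F = ξ}

/-- The Lefschetz fixed point formula for smooth proper curves over `k` and coefficients `Λ`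
(transversal fixed points). -/
def LefFor (k : Type u) [Field k] (Λ : Type) [CommRing Λ] : Prop :=
  ∀ {X : Scheme.{u}} (f : X ⟶ Spec (CommRingCat.of k)) [IsProper f]
    [SmoothOfRelativeDimension 1 f] (F : X ⟶ X) (_ : F ≫ f = f) (_ : Finite (FixK f F))
    (_ : ∀ ξ : FixK f F, FixPt.IsTransversalAt F (ξ.1 (IsLocalRing.closedPoint k)))
    [PreservesFiniteLimits (EtModW.pull (ULift.{u + 1} Λ) F)],
    FixPt.lefNum (FixPt.unit (ULift.{u + 1} Λ) X)
      (FixPt.endo F (FixPt.pullUnit (Λ := ULift.{u + 1} Λ) F).hom) =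
      (Nat.card (FixK f F) : ULift.{u + 1} Λ)

variable {k K : Type u} [Field k] [Fintype k] [Field K] [Algebra k K] [Algebra.IsAlgebraic k K]
  {X₀ : Scheme.{u}} (a : X₀ ⟶ Spec (CommRingCat.of k)) (Λ : Type) [CommRing Λ] [Fact FinFr.PullExact.{u}]

/-- **The trace formula for powers of Frobenius on smooth proper curves** (possibly disconnected), from
the Lefschetz formula `LefFor K Λ`. -/
theorem trace_formula_pow [IsProper a] [SmoothOfRelativeDimension 1 a] (H : LefFor K Λ) (n : ℕ)
    (hn : 0 < n) :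
    ∑ᶠ i : ℕ, (-1 : Λ) ^ i *
      LinearMap.trace Λ _ ((FinFr.frob (K := K) a (FinFr.constLam Λ X₀) i) ^ n) =
    (Nat.card (FixPts k K a n) : Λ) := by
  obtain ⟨p, hp⟩ := CharP.exists k
  obtain ⟨d, hpr, hd⟩ := FiniteField.card k p
  have hq : p ^ (d : ℕ) = Fintype.card k := hd.symm
  let Φ := FrobEnd.iter (FrobEnd.F K a p hpr d hq) n
  have h1 : ∑ᶠ i : ℕ, (-1 : Λ) ^ i *
      LinearMap.trace Λ _ ((FinFr.frob (K := K) a (FinFr.constLam Λ X₀) i) ^ n) =
      ∑ᶠ i : ℕ, (-1 : Λ) ^ i * LinearMap.trace Λ _ (FinFr.endConst (Λ := Λ) Φ i) :=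
    finsum_congr fun i => by rw [FrobEnd.trace_frob_pow (K := K) a p hpr d hq Λ n i]
  have : PreservesFiniteLimits (EtModW.pull (ULift.{u + 1} Λ) Φ) :=
    Etrest.ModCons.preservesFiniteLimits_pull _
  have : PreservesFiniteLimits (EtCoh.pull Φ) := FinFr.pullExact_out Φ
  have h2 := DictEnd.lefNum_endo Λ Φ
  have hfix : Finite (FixPts k K a n) := H911.FixFin.finite_fixPts k K a hn
  have hF : Φ ≫ FinFr.extStr K a = FinFr.extStr K a := FrobEnd.iter_F_snd a p hpr d hq n
  have hst : MorphismProperty.IsStableUnderBaseChange (@SmoothOfRelativeDimension 1) :=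
    smoothOfRelativeDimension_isStableUnderBaseChange 1
  have hsm : SmoothOfRelativeDimension 1 (FinFr.extStr K a) :=
    MorphismProperty.pullback_snd (P := @SmoothOfRelativeDimension 1) _ _ inferInstance
  have e := FrobEnd.fixEquiv (K := K) a p hpr d hq n
  have hfin : Finite (FixK (FinFr.extStr K a) Φ) := Finite.of_equiv _ e.symm
  have h3 := H (FinFr.extStr K a) Φ hF hfin
    (fun ξ => FrobEnd.isTransversalAt a p hpr d hq hn ξ.1 ξ.2.1 ξ.2.2)
  rw [h2, Nat.card_congr e] at h3
  rw [h1]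
  have h4 := congrArg ULift.down h3
  rw [ULift.down_natCast] at h4
  exact h4

/-- **The trace formula for Frobenius on smooth proper curves**, from `LefFor K Λ`. -/
theorem trace_formula [IsProper a] [SmoothOfRelativeDimension 1 a] (H : LefFor K Λ) :
    ∑ᶠ i : ℕ, (-1 : Λ) ^ i * LinearMap.trace Λ _ (FinFr.frob (K := K) a (FinFr.constLam Λ X₀) i) =
    (Nat.card (FinFr.RatPt a) : Λ) := by
  have h := trace_formula_pow (K := K) a Λ H 1 one_pos
  rw [RatFix.natCard_fixPts_one] at h
  rw [← h]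
  exact finsum_congr fun i => by rw [pow_one]

end Groth.Agent.Sga4h.H915.CurveCase
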