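import Groth.Agent.Ega2.SmoothBdry
import Groth.Agent.VarietyB.CurveClosure
import Groth.Agent.Ega1.ReducedSub
import Groth.Agent.Desc.LQF

/-!
# The smooth part of a curve

`X` of finite type over a perfect field, of dimension `≤ 1`: there is an open subscheme `U` whose reduction is smooth
of relative dimension one, with finite complement consisting of closed points.
-/

set_option autoImplicit false
universe u
open CategoryTheory CategoryTheory.Limits AlgebraicGeometry TopologicalSpace

namespace Groth.Agent.Sga4h.H915.SmoothPart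

theorem isClosed_of_lqf {k : Type u} [Field k] {X V : Scheme.{u}} (p : X ⟶ Spec (CommRingCat.of k))
    [LocallyOfFiniteType p] (j : V ⟶ X) [IsOpenImmersion j] [LocallyQuasiFinite (j ≫ p)] (x : V) :
    IsClosed ({j x} : Set X) := by
  have : JacobsonSpace X := LocallyOfFiniteType.jacobsonSpace p
  have key : ∀ s : Set V, (∀ y, y ∈ s) → _root_.IsDiscrete s → DiscreteTopology V := by
    intro s hs h
    obtain rfl : s = Set.univ := Set.eq_univ_of_forall hs
    exact isDiscrete_univ_iff.1 h
  have hd : DiscreteTopology V := by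
    refine key _ (fun y => ?_) ((j ≫ p).isDiscrete_preimage_singleton (IsLocalRing.closedPoint k))
    exact Subsingleton.elim (α := PrimeSpectrum k) _ _
  have h3 : x ∈ closedPoints V := isClosed_discrete _
  rw [← j.isOpenEmbedding.preimage_closedPoints] at h3
  exact h3

theorem smooth_smoothLocus {X S : Scheme.{u}} (f : X ⟶ S) [LocallyOfFinitePresentation f] :
    Smooth (f.smoothLocus.ι ≫ f) := by
  rw [← Scheme.Hom.smoothLocus_eq_top_iff, ← Scheme.Hom.preimage_smoothLocus_eq]
  simp

variable (k : Type u) [Field k] [PerfectField k]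

/-- The reduced case. -/
theorem exists_reduced {X : Scheme.{u}} (p : X ⟶ Spec (CommRingCat.of k)) [IsReduced X]
    [LocallyOfFiniteType p] [QuasiCompact p] (hdim : topologicalKrullDim X ≤ 1) :
    ∃ V : X.Opens, SmoothOfRelativeDimension 1 (V.ι ≫ p) ∧
      ∀ x : X, x ∉ V → IsClosed ({x} : Set X) := by
  have : LocallyOfFinitePresentation p := inferInstance
  let S : X.Opens := p.smoothLocus
  have hS : Dense (S : Set X) := Scheme.Hom.dense_smoothLocus_of_perfectField p
  have hSsm : Smooth (S.ι ≫ p) := smooth_smoothLocus p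
  have key : ∀ x ∈ S, ∃ (m : ℕ) (W : X.Opens), x ∈ W ∧ W ≤ S ∧ ∀ z ∈ W, FlatMor.localDim X z = m := by
    intro x hx
    obtain ⟨m, -, -, V, -, hxV, -, -, hV⟩ := Ega2.SmoothBdry.exists_relDim (S.ι ≫ p) (⟨x, hx⟩ : S)
    refine ⟨m, S.ι ''ᵁ V, ⟨_, hxV, rfl⟩, ?_, ?_⟩
    · rintro _ ⟨z, -, rfl⟩
      exact z.2
    · rintro _ ⟨z, hz, rfl⟩
      rw [← hV z hz]
      exact (VarietyB.DimTop.localDim_opens S z).symm
  let V : X.Opens := ⟨{x | x ∈ S ∧ FlatMor.localDim X x = 1}, by
    rw [isOpen_iff_forall_mem_open]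
    rintro x ⟨hx, hx1⟩
    obtain ⟨m, W, hxW, hWS, hW⟩ := key x hx
    refine ⟨W, fun z hz => ⟨hWS hz, ?_⟩, W.isOpen, hxW⟩
    rw [hW z hz, ← hW x hxW, hx1]⟩
  have hVS : V ≤ S := fun x hx => hx.1
  refine ⟨V, ?_, fun x hx => ?_⟩
  · have e : X.homOfLE hVS ≫ S.ι = V.ι := X.homOfLE_ι hVS
    have hsm : Smooth (V.ι ≫ p) := by
      rw [← e, Category.assoc]
      infer_instance
    refine Ega2.SmoothBdry.smoothOfRelativeDimension_of_localDim (V.ι ≫ p) 1 fun x => ?_
    exact (VarietyB.DimTop.localDim_opens V x).trans x.2.2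
  · by_cases hxS : x ∈ S
    · obtain ⟨m, W, hxW, hWS, hW⟩ := key x hxS
      have h1 : FlatMor.localDim X x = m := hW x hxW
      have h2 : FlatMor.localDim X x ≤ 1 := (VarietyB.DimTop.localDim_le_dim x).trans hdim
      have hm : m = 0 := by
        rw [h1] at h2
        have h3 : m ≤ 1 := by exact_mod_cast h2
        have h4 : m ≠ 1 := by
          rintro rfl
          exact hx ⟨hxS, by rw [h1]; rfl⟩
        omega
      subst hm
      have e : X.homOfLE hWS ≫ S.ι = W.ι := X.homOfLE_ι hWS
      have hsm : Smooth (W.ι ≫ p) := by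
        rw [← e, Category.assoc]
        infer_instance
      have h5 : SmoothOfRelativeDimension 0 (W.ι ≫ p) :=
        Ega2.SmoothBdry.smoothOfRelativeDimension_of_localDim (W.ι ≫ p) 0 fun y => by
          exact (VarietyB.DimTop.localDim_opens W y).trans (hW _ y.2)
      have h6 : Etale (W.ι ≫ p) := (Etale.iff_smoothOfRelativeDimension_zero _).2 h5
      have h7 : LocallyQuasiFinite (W.ι ≫ p) := Desc.LQF.of_etale _
      exact isClosed_of_lqf p W.ι ⟨x, hxW⟩
    · have hdom : IsDominant S.ι := ⟨by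
        rw [DenseRange, Scheme.Opens.range_ι]
        exact hS⟩
      have hdimS : topologicalKrullDim S ≤ 1 :=
        (S.ι.isOpenEmbedding.isInducing.topologicalKrullDim_le).trans hdim
      have h := (VarietyB.CurveClosure.finite_compl_of_dim_le_one k p S.ι hdimS).2 x
        (by
          intro h
          apply hxS
          obtain ⟨y, rfl⟩ := h
          exact y.2)
      exact h

/-- **The smooth part of a curve.** -/
theorem exists_smooth_part {X : Scheme.{u}} (p : X ⟶ Spec (CommRingCat.of k))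
    [LocallyOfFiniteType p] [QuasiCompact p] (hdim : topologicalKrullDim X ≤ 1) :
    ∃ (U Y : Scheme.{u}) (u : U ⟶ X) (π : Y ⟶ U), IsOpenImmersion u ∧ IsClosedImmersion π ∧
      Surjective π ∧ SmoothOfRelativeDimension 1 (π ≫ u ≫ p) ∧ (Set.range u)ᶜ.Finite ∧
      ∀ x ∉ Set.range u, IsClosed ({x} : Set X) := by
  have hX : IsLocallyNoetherian X := LocallyOfFiniteType.isLocallyNoetherian p
  have hXc : CompactSpace X := QuasiCompact.compactSpace_of_compactSpace p
  have hXn : IsNoetherian X := {}
  let I := Scheme.IdealSheafData.vanishingIdeal (⊤ : Closeds X)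
  let ρ : I.subscheme ⟶ X := I.subschemeι
  have hr : Set.range ρ = Set.univ := by
    rw [Scheme.IdealSheafData.range_subschemeι, Scheme.IdealSheafData.coe_support_vanishingIdeal]
    rfl
  have hred : IsReduced I.subscheme := Ega1.ReducedSub.isReduced_subscheme_vanishingIdeal _
  have hsurj : Surjective ρ := ⟨Set.range_eq_univ.1 hr⟩
  have hdim' : topologicalKrullDim I.subscheme ≤ 1 :=
    (ρ.isClosedEmbedding.isInducing.topologicalKrullDim_le).trans hdim
  obtain ⟨V, hV, hVc⟩ := exists_reduced k (ρ ≫ p) hdim'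
  have hho : IsOpenMap ρ := by
    have h := (ρ.isClosedEmbedding.isEmbedding.isInducing).isOpenMap (by rw [hr]; exact isOpen_univ)
    exact h
  let U : X.Opens := ⟨ρ '' V, hho _ V.isOpen⟩
  have hUV : ρ ⁻¹ᵁ U = V := by
    apply Opens.ext
    change ρ ⁻¹' (ρ '' V) = V
    exact Set.preimage_image_eq _ ρ.isClosedEmbedding.injective
  have hcl : ∀ x ∉ Set.range U.ι, IsClosed ({x} : Set X) := by
    intro x hx
    obtain ⟨y, rfl⟩ := ρ.surjective x
    have hy : y ∉ V := fun h => hx (by rw [Scheme.Opens.range_ι]; exact ⟨y, h, rfl⟩)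
    have h := hVc y hy
    have h2 := ρ.isClosedEmbedding.isClosedMap _ h
    rw [Set.image_singleton] at h2
    exact h2
  have hsU : Surjective (ρ ∣_ U) :=
    IsZariskiLocalAtTarget.restrict (P := @Surjective) inferInstance U
  refine ⟨U, (ρ ⁻¹ᵁ U : I.subscheme.Opens), U.ι, ρ ∣_ U, inferInstance, inferInstance, hsU, ?_, ?_, hcl⟩
  · rw [morphismRestrict_ι_assoc, hUV]
    exact hV
  · exact VarietyB.CurveTop.finite_of_isClosed_of_closedPoints _
      U.ι.isOpenEmbedding.isOpen_range.isClosed_compl fun x hx => hcl x hx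

end Groth.Agent.Sga4h.H915.SmoothPart
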