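import Groth.Agent.Sga4h.H915.FrobPull

/-!
# Bridge between `FinFr.galLin` and the short-instance version `FrobPull.galHL`
(slow declarations, stated once)
-/

set_option autoImplicit false
universe u
open CategoryTheory CategoryTheory.Limits AlgebraicGeometry Opposite Abelian
open scoped Groth.Agent.Etcore.EtInst
open Groth.Agent.Etcore.EtInst Groth.Agent.Etcore.PullCoh Groth.Agent.Etcore.HpullCalc
  Groth.Agent.Etcore.HC Groth.Agent.Etcore

namespace Groth.Agent.Sga4h.H915.FrobPull

variable {Λ : Type} [CommRing Λ]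

/-- `EtCoh.H X L.carrier n` is `HHL L n`. -/
noncomputable def brd {X : Scheme.{u}} (L : EtLam.Sheaf Λ X) (n : ℕ) :
    EtCoh.H X L.carrier n ≃+ HHL L n where
  toFun x := x
  invFun x := x
  left_inv _ := rfl
  right_inv _ := rfl
  map_add' _ _ := rfl

theorem brd_smul {X : Scheme.{u}} (L : EtLam.Sheaf Λ X) (n : ℕ) (r : Λ)
    (x : EtCoh.H X L.carrier n) : brd L n (r • x) = r • brd L n x := rfl

variable {k : Type u} [Field k] {K : Type u} [Field K] [Algebra k K] {P : Scheme.{u}}
  (b : P ⟶ Spec (CommRingCat.of k)) [Fact FinFr.PullExact.{u}]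

theorem brd_galLin (σ : K ≃ₐ[k] K) (L : EtLam.Sheaf Λ P) (n : ℕ)
    (x : EtCoh.H (FinFr.ext K b) (EtLam.pullback (FinFr.extπ K b) L).carrier n) :
    brd (EtLam.pullback (FinFr.extπ K b) L) n (FinFr.galLin b σ L n x) =
      galHL b σ L n (brd (EtLam.pullback (FinFr.extπ K b) L) n x) := rfl

end Groth.Agent.Sga4h.H915.FrobPull
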