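import Groth.Prelude.Def_FixPt
import Groth.Agent.Sga5.H858.AbsFrob
import Mathlib.AlgebraicGeometry.Stalk

/-!
# Fixed points of Frobenius endomorphisms are transversal

`X` with `π : X ⟶ X₀` and `s : X ⟶ Spec K` jointly monic, `F : X ⟶ X` over `Spec K` with
`F ≫ π = π ≫ G`, `G` a positive power of the absolute Frobenius of `X₀`.  Every `K`-point fixed by `F`
is a transversal fixed point.
-/

set_option autoImplicit false
universe u
open CategoryTheory CategoryTheory.Limits AlgebraicGeometry Opposite IsLocalRing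
open Groth.Agent.Sga5.H858.AbsFrob

namespace Groth.Agent.Sga4h.H915.Trans

variable {K : Type u} [Field K] {X X₀ : Scheme.{u}} (π : X ⟶ X₀) (s : X ⟶ Spec (CommRingCat.of K))
  (hmono : ∀ {T : Scheme.{u}} (a b : T ⟶ X), a ≫ π = b ≫ π → a ≫ s = b ≫ s → a = b)
  (p : ℕ) (hpr : p.Prime) (h : ∀ U : X₀.Opens, ((p : ℕ) : Γ(X₀, U)) = 0) (hK : ((p : ℕ) : K) = 0)
  (e : ℕ) (he : 0 < e)

/-- the `p ^ e`-power map of a commutative ring of characteristic `p`, in the category. -/
noncomputable def pw (A : CommRingCat.{u}) (hA : ((p : ℕ) : A) = 0) : A ⟶ A :=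
  CommRingCat.ofHom (powHom A p hpr hA e)

theorem pw_comp (d e' : ℕ) (A : CommRingCat.{u}) (hA : ((p : ℕ) : A) = 0) :
    pw p hpr d A hA ≫ pw p hpr e' A hA = pw p hpr (d + e') A hA := by
  ext r
  change (r ^ p ^ d) ^ p ^ e' = r ^ p ^ (d + e')
  rw [← pow_mul, ← pow_add]

theorem frob_pw (A : CommRingCat.{u}) (hA : ((p : ℕ) : A) = 0) :
    frob (Spec A) p hpr (char_zero_spec A hA) e = Spec.map (pw p hpr e A hA) :=
  frob_spec A p hpr hA e (powHom A p hpr hA e) (fun _ => rfl)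

theorem pw_frob {A : CommRingCat.{u}} (hA : ((p : ℕ) : A) = 0) (g : Spec A ⟶ X₀) :
    Spec.map (pw p hpr e A hA) ≫ g = g ≫ frob X₀ p hpr h e := by
  rw [← frob_pw]
  exact frob_comp g p hpr _ h e

variable (G : X₀ ⟶ X₀) (hG : ∀ (A : CommRingCat.{u}) (hA : ((p : ℕ) : A) = 0) (g : Spec A ⟶ X₀),
    Spec.map (pw p hpr e A hA) ≫ g = g ≫ G)
  (F : X ⟶ X) (hFs : F ≫ s = s) (hFπ : F ≫ π = π ≫ G)
  (ξ : Spec (CommRingCat.of K) ⟶ X) (hξ : ξ ≫ s = 𝟙 _) (hfix : ξ ≫ F = ξ)

include hmono hFs hFπ hξ hfix he hK hG in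
theorem isTransversalAt : FixPt.IsTransversalAt F (ξ (closedPoint K)) := by
  let x : X := ξ (closedPoint K)
  let R : CommRingCat.{u} := X.presheaf.stalk x
  let fS : Spec R ⟶ X := X.fromSpecStalk x
  let ev : R ⟶ CommRingCat.of K := Scheme.stalkClosedPointTo ξ
  have hev : Spec.map ev ≫ fS = ξ := Scheme.Spec_stalkClosedPointTo_fromSpecStalk ξ
  let ι : CommRingCat.of K ⟶ R := Spec.preimage (fS ≫ s)
  have hι : Spec.map ι = fS ≫ s := Spec.map_preimage _
  have h1 : ι ≫ ev = 𝟙 _ := by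
    apply Spec.map_injective
    rw [Spec.map_comp, hι, reassoc_of% hev, hξ, Spec.map_id]
  have h1' : ∀ c : K, ev.hom (ι.hom c) = c := fun c => congrArg (fun t => t.hom c) h1
  have hx : F x = x := FixPt.base_apply_eq_of_comp_eq hfix _
  let φ : R ⟶ R := (X.presheaf.stalkCongr (Inseparable.of_eq hx)).inv ≫ F.stalkMap x
  have hφ : Spec.map φ ≫ fS = fS ≫ F := by
    have h2 : Spec.map (X.presheaf.stalkCongr (Inseparable.of_eq hx)).inv ≫ fS =
        X.fromSpecStalk (F x) := by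
      rw [TopCat.Presheaf.stalkCongr_inv]
      exact Scheme.SpecMap_stalkSpecializes_fromSpecStalk _
    change Spec.map ((X.presheaf.stalkCongr (Inseparable.of_eq hx)).inv ≫ F.stalkMap x) ≫ fS = _
    rw [Spec.map_comp, Category.assoc, h2]
    exact Scheme.SpecMap_stalkMap_fromSpecStalk F
  let I : Ideal (R : Type u) := (maximalIdeal (R : Type u)) ^ 2
  let A : CommRingCat.{u} := CommRingCat.of ((R : Type u) ⧸ I)
  let mk : R ⟶ A := CommRingCat.ofHom (Ideal.Quotient.mk I)
  have hker : ∀ r : R, r ∈ maximalIdeal R → ev.hom r = 0 := by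
    intro r hr
    by_contra hne
    have hu : IsUnit (ev.hom r) := isUnit_iff_ne_zero.2 hne
    have : IsLocalHom ev.hom := Scheme.isLocalHom_stalkClosedPointTo' ξ
    exact (mem_maximalIdeal r).1 hr (isUnit_of_map_unit ev.hom r hu)
  have hker' : ∀ r : R, ev.hom r = 0 → r ∈ maximalIdeal R := by
    intro r hr
    rw [mem_maximalIdeal]
    intro hu
    exact (hu.map ev.hom).ne_zero hr
  have hA : ((p : ℕ) : A) = 0 := by
    have := map_natCast (mk.hom.comp ι.hom) p
    rw [← this, hK, map_zero]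
  have hq : 2 ≤ p ^ e := (Nat.Prime.two_le hpr).trans (Nat.le_self_pow he.ne' p)
  -- the power map on `A`
  have h2 : mk ≫ pw p hpr e A hA = ev ≫ pw p hpr e (CommRingCat.of K) hK ≫ ι ≫ mk := by
    ext r
    change (mk.hom r) ^ p ^ e = mk.hom (ι.hom ((ev.hom r) ^ p ^ e))
    rw [map_pow, map_pow, ← sub_eq_zero]
    have h3 : (powHom A p hpr hA e) (mk.hom r - mk.hom (ι.hom (ev.hom r))) =
        (mk.hom r) ^ p ^ e - (mk.hom (ι.hom (ev.hom r))) ^ p ^ e := by
      rw [map_sub]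
      rfl
    rw [← h3, ← map_sub]
    change (mk.hom (r - ι.hom (ev.hom r))) ^ p ^ e = 0
    rw [← map_pow]
    refine Ideal.Quotient.eq_zero_iff_mem.2 (Ideal.pow_le_pow_right hq (Ideal.pow_mem_pow ?_ _))
    apply hker'
    rw [map_sub, h1', sub_self]
  have main : φ ≫ mk = ev ≫ ι ≫ mk := by
    apply Spec.map_injective
    rw [← cancel_mono fS]
    apply hmono
    · have h4 : (Spec.map (φ ≫ mk) ≫ fS) ≫ π = (Spec.map mk ≫ fS ≫ π) ≫ G := by
        rw [Spec.map_comp, Category.assoc, Category.assoc, reassoc_of% hφ, hFπ]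
        simp only [Category.assoc]
      rw [h4, ← hG A hA, ← Spec.map_comp_assoc, h2]
      simp only [Spec.map_comp, Category.assoc]
      rw [reassoc_of% hev]
      congr 2
      rw [hG _ hK (ξ ≫ π), Category.assoc, ← hFπ, reassoc_of% hfix]
    · rw [Spec.map_comp, Category.assoc, Category.assoc, reassoc_of% hφ, hFs, ← hι]
      simp only [Spec.map_comp, Category.assoc]
      rw [reassoc_of% hev, hξ, Category.comp_id]
  have hφm : ∀ r : R, r ∈ maximalIdeal R → φ.hom r ∈ (maximalIdeal R) ^ 2 := by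
    intro r hr
    have h5 := congrArg (fun t => t.hom r) main
    change mk.hom (φ.hom r) = mk.hom (ι.hom (ev.hom r)) at h5
    rw [hker r hr, map_zero, map_zero] at h5
    exact Ideal.Quotient.eq_zero_iff_mem.1 h5
  refine ⟨hx, ?_⟩
  have h6 : ∀ v, FixPt.cotangentEndo F x hx v = 0 := by
    intro v
    obtain ⟨⟨r, hr⟩, rfl⟩ := Ideal.toCotangent_surjective _ v
    change Ideal.toCotangent _ _ = 0
    rw [Ideal.toCotangent_eq_zero]
    exact hφm r hr
  have h7 : (fun v => v - FixPt.cotangentEndo F x hx v) = id := by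
    funext v
    rw [h6, sub_zero]
    rfl
  rw [h7]
  exact Function.bijective_id

end Groth.Agent.Sga4h.H915.Trans
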