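import Groth.Agent.Sga5.H858.GeomFrob
import Groth.Agent.Sga4h.H915.Trans
import Groth.Agent.Sga4h.H915.TraceConv
import Groth.Agent.Sga4h.H911.PtCount

/-!
# Powers of the geometric Frobenius and iterates of the Frobenius endomorphism `F₀ × id`

`k` finite with `q = p ^ d` elements, `K/k` algebraic, `a : X₀ ⟶ Spec k` arbitrary, constant
coefficients `Λ` (any commutative ring).  `trace_frob_pow`: the trace of `(FinFr.frob a Λ i)^n` is the
trace of pullback along the `n`-th iterate of `F₀ × id`.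
-/

set_option autoImplicit false
universe u
open CategoryTheory CategoryTheory.Limits AlgebraicGeometry Opposite Abelian
open scoped Groth.Agent.Etcore.EtInst
open Groth.Agent.Etcore.EtInst Groth.Agent.Etcore.HpullCalc Groth.Agent.Etcore.HC
  Groth.Agent.Etcore.PullCoh Groth.Agent.Sga5.H858.AbsFrob Groth.Agent.Sga5.H858.GeomFrob

namespace Groth.Agent.Sga4h.H915.FrobEnd

/-- iterates of an endomorphism. -/
noncomputable def iter {X : Scheme.{u}} (f : X ⟶ X) : ℕ → (X ⟶ X)
  | 0 => 𝟙 X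
  | n + 1 => iter f n ≫ f

theorem iter_zero {X : Scheme.{u}} (f : X ⟶ X) : iter f 0 = 𝟙 X := rfl

theorem iter_succ {X : Scheme.{u}} (f : X ⟶ X) (n : ℕ) : iter f (n + 1) = iter f n ≫ f := rfl

theorem iter_one {X : Scheme.{u}} (f : X ⟶ X) : iter f 1 = f := Category.id_comp f

theorem iter_comp {X Y : Scheme.{u}} (f : X ⟶ X) (g : Y ⟶ Y) (t : X ⟶ Y) (h : f ≫ t = t ≫ g) (n : ℕ) :
    iter f n ≫ t = t ≫ iter g n := by
  induction n with
  | zero => rw [iter_zero, iter_zero, Category.id_comp, Category.comp_id]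
  | succ n ih => rw [iter_succ, iter_succ, Category.assoc, h, reassoc_of% ih]

theorem iter_comp_eq {X Y : Scheme.{u}} (f : X ⟶ X) (t : X ⟶ Y) (h : f ≫ t = t) (n : ℕ) :
    iter f n ≫ t = t := by
  induction n with
  | zero => rw [iter_zero, Category.id_comp]
  | succ n ih => rw [iter_succ, Category.assoc, h, ih]

variable {k K : Type u} [Field k] [Fintype k] [Field K] [Algebra k K] [Algebra.IsAlgebraic k K]
  {X₀ : Scheme.{u}} (a : X₀ ⟶ Spec (CommRingCat.of k)) (p : ℕ) (hpr : p.Prime) (d : ℕ)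
  (hq : p ^ d = Fintype.card k)

include hq a in
theorem h₀ (U : X₀.Opens) : ((p : ℕ) : Γ(X₀, U)) = 0 :=
  char_zero_of_hom a (char_zero_spec (CommRingCat.of k) (cast_zero p d hq)) U

/-- The `q`-Frobenius of `X₀`. -/
noncomputable def F₀ : X₀ ⟶ X₀ := frob X₀ p hpr (h₀ a p d hq) d

theorem F₀_comp : F₀ a p hpr d hq ≫ a = a := frob_hom a p hpr (h₀ a p d hq) d hq

variable (K) in
/-- The endomorphism `F₀ × id` of `X₀ ×_k K`. -/
noncomputable def F : FinFr.ext K a ⟶ FinFr.ext K a :=
  FinFr.extHom K a (F₀ a p hpr d hq) (F₀_comp a p hpr d hq)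

theorem F_fst : F K a p hpr d hq ≫ FinFr.extπ K a = FinFr.extπ K a ≫ F₀ a p hpr d hq :=
  FinFr.extHom_fst a _ _

theorem F_snd : F K a p hpr d hq ≫ FinFr.extStr K a = FinFr.extStr K a :=
  (pullback.lift_snd _ _ _).trans (Category.comp_id _)

theorem iter_F_fst (n : ℕ) : iter (F K a p hpr d hq) n ≫ FinFr.extπ K a =
    FinFr.extπ K a ≫ iter (F₀ a p hpr d hq) n :=
  iter_comp _ _ _ (F_fst a p hpr d hq) n

theorem iter_F_snd (n : ℕ) : iter (F K a p hpr d hq) n ≫ FinFr.extStr K a = FinFr.extStr K a :=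
  iter_comp_eq _ _ (F_snd a p hpr d hq) n

/-- `iter F₀ n` is the `q^n`-Frobenius on points with values in affine schemes. -/
theorem pw_iter (n : ℕ) (A : CommRingCat.{u}) (hA : ((p : ℕ) : A) = 0) (g : Spec A ⟶ X₀) :
    Spec.map (Trans.pw p hpr (d * n) A hA) ≫ g = g ≫ iter (F₀ a p hpr d hq) n := by
  induction n generalizing g with
  | zero =>
    have h : Trans.pw p hpr (d * 0) A hA = 𝟙 A := by
      ext r
      exact pow_one r
    rw [h, Spec.map_id, Category.id_comp, iter_zero, Category.comp_id]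
  | succ n ih =>
    rw [Nat.mul_succ, ← Trans.pw_comp p hpr (d * n) d A hA, Spec.map_comp, Category.assoc, ih,
      ← Category.assoc, Trans.pw_frob p hpr (h₀ a p d hq) d hA, iter_succ, Category.assoc]
    have h2 := frob_comp (iter (F₀ a p hpr d hq) n) p hpr (h₀ a p d hq) (h₀ a p d hq) d
    exact congrArg (fun t => g ≫ t) h2

/-- Fixed `K`-points of `iter F n` (`n > 0`) are transversal. -/
theorem isTransversalAt {n : ℕ} (hn : 0 < n) (ξ : Spec (CommRingCat.of K) ⟶ FinFr.ext K a)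
    (hξ : ξ ≫ FinFr.extStr K a = 𝟙 _) (hfix : ξ ≫ iter (F K a p hpr d hq) n = ξ) :
    FixPt.IsTransversalAt (iter (F K a p hpr d hq) n) (ξ (IsLocalRing.closedPoint K)) := by
  have hK : ((p : ℕ) : K) = 0 := by
    rw [← map_natCast (algebraMap k K) p, cast_zero p d hq, map_zero]
  exact Trans.isTransversalAt (FinFr.extπ K a) (FinFr.extStr K a)
    (fun {T} u v h1 h2 => pullback.hom_ext h1 h2) p hpr hK (d * n)
    (Nat.mul_pos (Nat.pos_of_ne_zero (hd k p d hq)) hn) (iter (F₀ a p hpr d hq) n)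
    (pw_iter a p hpr d hq n) (iter (F K a p hpr d hq) n) (iter_F_snd a p hpr d hq n)
    (iter_F_fst a p hpr d hq n) ξ hξ hfix

/-- The fixed `K`-points of `iter F n` are the geometric points of `X₀` fixed by the `n`-th power of the
arithmetic Frobenius. -/
noncomputable def fixEquiv (n : ℕ) :
    {ξ : Spec (CommRingCat.of K) ⟶ FinFr.ext K a //
      ξ ≫ FinFr.extStr K a = 𝟙 _ ∧ ξ ≫ iter (F K a p hpr d hq) n = ξ} ≃
    H911.PtCount.FixPts k K a n := by
  have hK : ((p : ℕ) : K) = 0 := by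
    rw [← map_natCast (algebraMap k K) p, cast_zero p d hq, map_zero]
  have h1 : CommRingCat.ofHom (((FinFr.arith k K) ^ n : K ≃ₐ[k] K) : K →+* K) =
      Trans.pw p hpr (d * n) (CommRingCat.of K) hK := by
    ext z
    change ((FinFr.arith k K) ^ n : K ≃ₐ[k] K) z = z ^ p ^ (d * n)
    rw [H911.PtCount.arith_pow_apply, ← hq, ← pow_mul]
  refine
    { toFun := fun ξ => ⟨ξ.1 ≫ FinFr.extπ K a, ?_, ?_⟩
      invFun := fun y => ⟨pullback.lift y.1 (𝟙 _) (by rw [y.2.1, Category.id_comp]),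
        pullback.lift_snd _ _ _, ?_⟩
      left_inv := fun ξ => ?_
      right_inv := fun y => ?_ }
  · rw [Category.assoc, pullback.condition, reassoc_of% ξ.2.1]
  · rw [h1, pw_iter a p hpr d hq n (CommRingCat.of K) hK (ξ.1 ≫ FinFr.extπ K a), Category.assoc,
      ← iter_F_fst, reassoc_of% ξ.2.2]
  · apply pullback.hom_ext
    · have h2 := iter_F_fst (K := K) a p hpr d hq n
      rw [Category.assoc]
      refine (congrArg (fun t => _ ≫ t) h2).trans ?_
      rw [pullback.lift_fst_assoc, ← pw_iter a p hpr d hq n (CommRingCat.of K) hK y.1, ← h1]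
      exact y.2.2.trans (pullback.lift_fst _ _ _).symm
    · have h2 := iter_F_snd (K := K) a p hpr d hq n
      rw [Category.assoc]
      exact congrArg (fun t => _ ≫ t) h2
  · apply Subtype.ext
    apply pullback.hom_ext
    · exact pullback.lift_fst _ _ _
    · refine (pullback.lift_snd _ _ _).trans ?_
      exact ξ.2.1.symm
  · apply Subtype.ext
    exact pullback.lift_fst _ _ _

section Trace

variable (Λ : Type) [CommRing Λ] [Fact FinFr.PullExact.{u}]

omit [Fact FinFr.PullExact.{u}] in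
/-- An isomorphism of sheaves on cohomology. -/
noncomputable def isoEquiv {X : Scheme.{u}} {G G' : EtCoh.Ab X} (φ : G ≅ G') (i : ℕ) :
    HH X G i ≃+ HH X G' i where
  toFun := HHmap φ.hom i
  invFun := HHmap φ.inv i
  left_inv x := by rw [← HHmap_comp, Iso.hom_inv_id, HHmap_id]
  right_inv x := by rw [← HHmap_comp, Iso.inv_hom_id, HHmap_id]
  map_add' x y := map_add _ x y

theorem endConst_apply {X : Scheme.{u}} (f : X ⟶ X) (i : ℕ)
    (x : HH X (EtCoh.const X Λ) i) :
    FinFr.endConst (Λ := Λ) f i x = HC Λ f i x := rfl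

theorem endConst_iter_apply {X : Scheme.{u}} (f : X ⟶ X) (n i : ℕ)
    (x : HH X (EtCoh.const X Λ) i) :
    HC Λ (iter f n) i x = ((FinFr.endConst (Λ := Λ) f i) ^ n) x := by
  induction n generalizing x with
  | zero => exact HC_id Λ i x
  | succ n ih =>
    refine (HC_comp Λ (iter f n) f i x).trans ?_
    refine (ih _).trans ?_
    rw [pow_succ]
    rfl

/-- Pullback along an iterate is the power. -/
theorem endConst_iter {X : Scheme.{u}} (f : X ⟶ X) (n i : ℕ) :
    FinFr.endConst (Λ := Λ) (iter f n) i = (FinFr.endConst (Λ := Λ) f i) ^ n :=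
  LinearMap.ext fun x => endConst_iter_apply Λ f n i x

/-- The identification `H^i(X₀ ×_k K, π⁻¹ Λ) ≃ H^i(X₀ ×_k K, Λ)`. -/
noncomputable def eC {X Y : Scheme.{u}} (f : X ⟶ Y) (i : ℕ) :
    EtCoh.H X (EtLam.pullback f (FinFr.constLam Λ Y)).carrier i ≃+
      EtCoh.H X (FinFr.constLam Λ X).carrier i :=
  isoEquiv (EtCore.pullConst f Λ) i

theorem eC_smul {X Y : Scheme.{u}} (f : X ⟶ Y) (i : ℕ) (r : Λ)
    (x : EtCoh.H X (EtLam.pullback f (FinFr.constLam Λ Y)).carrier i) :
    eC Λ f i (r • x) = r • eC Λ f i x := by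
  change Sheaf.H.map (EtCore.pullConst f Λ).hom i
      (Sheaf.H.map ((EtCoh.pull f).map (FinFr.constSMul Y r)) i x) =
    Sheaf.H.map (FinFr.constSMul X r) i (Sheaf.H.map (EtCore.pullConst f Λ).hom i x)
  rw [← Sheaf.H.map_comp_apply, ← Sheaf.H.map_comp_apply]
  exact congrArg (fun ψ => Sheaf.H.map ψ i x)
    ((EtCore.pullConstIso f).hom.naturality
      (AddCommGrpCat.ofHom (DistribSMul.toAddMonoidHom (ULift.{u + 1} Λ) r)))

/-- The geometric Frobenius is pullback along `F₀ × id`. -/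
theorem eC_frob (i : ℕ)
    (x : EtCoh.H (FinFr.ext K a) (EtLam.pullback (FinFr.extπ K a) (FinFr.constLam Λ X₀)).carrier i) :
    eC Λ (FinFr.extπ K a) i (FinFr.frob (K := K) a (FinFr.constLam Λ X₀) i x) =
      FinFr.endConst (Λ := Λ) (F K a p hpr d hq) i (eC Λ (FinFr.extπ K a) i x) := by
  have h := main (K := K) a p hpr (h₀ a p d hq) d hq (F₀ a p hpr d hq) rfl
    (F₀_comp a p hpr d hq) Λ i x
  refine (congrArg (isoEquiv (EtCore.pullConst (FinFr.extπ K a) Λ) i) h).trans ?_
  exact (isoEquiv (EtCore.pullConst (FinFr.extπ K a) Λ) i).apply_symm_apply _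

theorem eC_frob_pow (n i : ℕ)
    (x : EtCoh.H (FinFr.ext K a) (EtLam.pullback (FinFr.extπ K a) (FinFr.constLam Λ X₀)).carrier i) :
    eC Λ (FinFr.extπ K a) i (((FinFr.frob (K := K) a (FinFr.constLam Λ X₀) i) ^ n) x) =
      ((FinFr.endConst (Λ := Λ) (F K a p hpr d hq) i) ^ n) (eC Λ (FinFr.extπ K a) i x) := by
  induction n generalizing x with
  | zero => rfl
  | succ n ih => rw [pow_succ, pow_succ, Module.End.mul_apply, Module.End.mul_apply, ih, eC_frob]

/-- **The trace of the `n`-th power of the geometric Frobenius is the trace of pullback along the `n`-th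
iterate of `F₀ × id`** (any `X₀` over `k`, constant coefficients). -/
theorem trace_frob_pow (n i : ℕ) :
    LinearMap.trace Λ _ ((FinFr.frob (K := K) a (FinFr.constLam Λ X₀) i) ^ n) =
      LinearMap.trace Λ _ (FinFr.endConst (Λ := Λ) (iter (F K a p hpr d hq) n) i) := by
  rw [endConst_iter]
  exact TraceConv.trace_semi (RingEquiv.refl Λ) (eC Λ (FinFr.extπ K a) i)
    (fun r x => eC_smul Λ (FinFr.extπ K a) i r x) _ _ (eC_frob_pow a p hpr d hq Λ n i)

end Trace

end Groth.Agent.Sga4h.H915.FrobEnd
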