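import Groth.Agent.Etcore.HC
import Groth.Agent.Etcore.LamFG
import Groth.Agent.Sga4h.H915.TraceConv
import Groth.Prelude.Def_FinFr

/-!
# Frobenius and pull-back

For `f : P₁ ⟶ P₂` over `k` and a `Λ`-sheaf `L` on `P₂`: the pull-back map
`H^i(P₂ ×_k K, π⁻¹ L) → H^i(P₁ ×_k K, π⁻¹ f⁻¹ L)` is `Λ`-linear and commutes with transport of structure
(in particular with the geometric Frobenius).  If it is bijective the traces agree.
-/

set_option autoImplicit false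
universe u
open CategoryTheory CategoryTheory.Limits AlgebraicGeometry Opposite Abelian
open scoped Groth.Agent.Etcore.EtInst
open Groth.Agent.Etcore.EtInst Groth.Agent.Etcore.PullCoh Groth.Agent.Etcore.HpullCalc
  Groth.Agent.Etcore.HC Groth.Agent.Etcore

namespace Groth.Agent.Sga4h.H915.FrobPull

section Square

variable {E₁ E₂ P₁ P₂ : Scheme.{u}} (u : E₁ ⟶ E₂) (p₂ : E₂ ⟶ P₂) (p₁ : E₁ ⟶ P₁) (f : P₁ ⟶ P₂)
  (c : E₁ ⟶ P₂) (w₁ : u ≫ p₂ = c) (w₂ : p₁ ≫ f = c)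

/-- `u⁻¹ p₂⁻¹ G ≅ p₁⁻¹ f⁻¹ G` for a commutative square. -/
noncomputable def sq (G : EtCoh.Ab P₂) :
    (EtCoh.pull u).obj ((EtCoh.pull p₂).obj G) ⟶ (EtCoh.pull p₁).obj ((EtCoh.pull f).obj G) :=
  th u p₂ c w₁ G ≫ inv (th p₁ f c w₂ G)

instance (G : EtCoh.Ab P₂) : IsIso (sq u p₂ p₁ f c w₁ w₂ G) := by
  unfold sq; infer_instance

/-- The pull-back map `H^n(E₂, p₂⁻¹ G) → H^n(E₁, p₁⁻¹ f⁻¹ G)`. -/
noncomputable def pb (G : EtCoh.Ab P₂) (n : ℕ) :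
    HH E₂ ((EtCoh.pull p₂).obj G) n →+ HH E₁ ((EtCoh.pull p₁).obj ((EtCoh.pull f).obj G)) n :=
  hpl u (sq u p₂ p₁ f c w₁ w₂ G) n

theorem pb_bijective_iff (G : EtCoh.Ab P₂) (n : ℕ) :
    Function.Bijective (pb u p₂ p₁ f c w₁ w₂ G n) ↔
      Function.Bijective (hp u ((EtCoh.pull p₂).obj G) n) := by
  have h : ⇑(pb u p₂ p₁ f c w₁ w₂ G n) =
      ⇑(HHmap (sq u p₂ p₁ f c w₁ w₂ G) n) ∘ ⇑(hp u ((EtCoh.pull p₂).obj G) n) := rfl
  rw [h]
  exact Function.Bijective.of_comp_iff' (HHmap_bijective (sq u p₂ p₁ f c w₁ w₂ G) n) _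

theorem sq_nat {G H : EtCoh.Ab P₂} (a : G ⟶ H) :
    (EtCoh.pull u).map ((EtCoh.pull p₂).map a) ≫ sq u p₂ p₁ f c w₁ w₂ H =
      sq u p₂ p₁ f c w₁ w₂ G ≫ (EtCoh.pull p₁).map ((EtCoh.pull f).map a) := by
  rw [sq, sq, ← Category.assoc, th_nat, Category.assoc, Category.assoc]
  congr 1
  rw [IsIso.eq_inv_comp, ← Category.assoc, IsIso.comp_inv_eq, th_nat]

theorem pb_map {G H : EtCoh.Ab P₂} (a : G ⟶ H) (n : ℕ) (x : HH E₂ ((EtCoh.pull p₂).obj G) n) :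
    pb u p₂ p₁ f c w₁ w₂ H n (HHmap ((EtCoh.pull p₂).map a) n x) =
      HHmap ((EtCoh.pull p₁).map ((EtCoh.pull f).map a)) n (pb u p₂ p₁ f c w₁ w₂ G n x) := by
  rw [pb, pb, hpl_map, map_hpl, sq_nat]

/-- Compatibility of `pb` with endomorphisms of `E₂` over `P₂` and of `E₁` over `P₁`. -/
theorem pb_comm (g₁ : E₁ ⟶ E₁) (g₂ : E₂ ⟶ E₂) (h : E₁ ⟶ E₂) (e₁ : g₁ ≫ p₁ = p₁) (e₂ : g₂ ≫ p₂ = p₂)
    (h₁ : u ≫ g₂ = h) (h₂ : g₁ ≫ u = h) (G : EtCoh.Ab P₂) (n : ℕ)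
    (x : HH E₂ ((EtCoh.pull p₂).obj G) n) :
    pb u p₂ p₁ f c w₁ w₂ G n (hpl g₂ (th g₂ p₂ p₂ e₂ G) n x) =
      hpl g₁ (th g₁ p₁ p₁ e₁ ((EtCoh.pull f).obj G)) n (pb u p₂ p₁ f c w₁ w₂ G n x) := by
  have hc : h ≫ p₂ = c := by rw [← h₁, Category.assoc, e₂, w₁]
  have hg : g₁ ≫ c = c := by rw [← w₂, ← Category.assoc, e₁]
  have a1 := th_assoc u g₂ p₂ h p₂ c h₁ e₂ w₁ hc G
  have a2 := th_assoc g₁ p₁ f p₁ c c e₁ w₂ hg w₂ G
  have a3 := th_assoc g₁ u p₂ h c c h₂ w₁ hg hc G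
  rw [pb, hpl_hpl u g₂ h h₁ (th g₂ p₂ p₂ e₂ G) (sq u p₂ p₁ f c w₁ w₂ G)
    (th h p₂ c hc G ≫ inv (th p₁ f c w₂ G)) (by rw [sq, reassoc_of% a1]),
    hpl_hpl g₁ u h h₂ (sq u p₂ p₁ f c w₁ w₂ G) _ (th h p₂ c hc G ≫ inv (th p₁ f c w₂ G))]
  have a4 : (EtCoh.pull g₁).map (inv (th p₁ f c w₂ G)) ≫ th g₁ p₁ p₁ e₁ ((EtCoh.pull f).obj G) =
      th g₁ c c hg G ≫ inv (th p₁ f c w₂ G) := by
    rw [Functor.map_inv, IsIso.inv_comp_eq, ← Category.assoc, IsIso.eq_comp_inv, a2]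
  rw [sq, Functor.map_comp, Category.assoc, a4, reassoc_of% a3]

end Square

section HHL

variable {Λ : Type} [CommRing Λ]

/-- `H^n(X, L)` for an etale sheaf of `Λ`-modules (with the short instances). -/
def HHL {X : Scheme.{u}} (L : EtLam.Sheaf Λ X) (n : ℕ) : Type (u + 1) := HH X L.carrier n

noncomputable instance {X : Scheme.{u}} (L : EtLam.Sheaf Λ X) (n : ℕ) : AddCommGroup (HHL L n) :=
  inferInstanceAs (AddCommGroup (HH X L.carrier n))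

noncomputable instance {X : Scheme.{u}} (L : EtLam.Sheaf Λ X) (n : ℕ) : Module Λ (HHL L n) :=
  LamFG.extModule (EtCoh.const X ℤ) L.carrier L.act n

theorem HHL_smul {X : Scheme.{u}} (L : EtLam.Sheaf Λ X) (n : ℕ) (r : Λ) (x : HHL L n) :
    r • x = HHmap (X := X) (L.act r) n x := rfl

/-- The map induced by an equivariant morphism of sheaves. -/
noncomputable def mapL {X : Scheme.{u}} {L L' : EtLam.Sheaf Λ X} (φ : L.carrier ⟶ L'.carrier)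
    (h : LamFG.Equi L.act L'.act φ) (n : ℕ) : HHL L n →ₗ[Λ] HHL L' n where
  toFun := HHmap (X := X) φ n
  map_add' x y := map_add (HHmap (X := X) φ n) x y
  map_smul' r x := by
    rw [RingHom.id_apply]
    have h1 : HHmap (X := X) φ n (HHmap (X := X) (L.act r) n x) =
      HHmap (X := X) (L'.act r) n (HHmap (X := X) φ n x) := by
      rw [← HHmap_comp, ← HHmap_comp]
      exact congrArg (fun ψ => HHmap (X := X) ψ n x) (h r)
    exact h1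

end HHL

section Frob

variable {k : Type u} [Field k] {K : Type u} [Field K] [Algebra k K] {P₁ P₂ : Scheme.{u}}
  {b₁ : P₁ ⟶ Spec (CommRingCat.of k)} {b₂ : P₂ ⟶ Spec (CommRingCat.of k)} (f : P₁ ⟶ P₂)
  (w : f ≫ b₂ = b₁)

include w in
theorem extHom_galAct (σ : K ≃ₐ[k] K) :
    FinFr.galAct b₁ σ ≫ FinFr.extHom K b₁ f w = FinFr.extHom K b₁ f w ≫ FinFr.galAct b₂ σ := by
  have e1 : FinFr.extHom K b₁ f w ≫ FinFr.extStr K b₂ = FinFr.extStr K b₁ :=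
    (pullback.lift_snd _ _ _).trans (Category.comp_id _)
  apply pullback.hom_ext
  · rw [Category.assoc, Category.assoc]
    erw [FinFr.galAct_fst b₂ σ, FinFr.extHom_fst b₁ f w]
    rw [← Category.assoc]
    erw [FinFr.galAct_fst b₁ σ]
  · rw [Category.assoc, Category.assoc]
    erw [FinFr.galAct_snd b₂ σ, e1, FinFr.galAct_snd b₁ σ]
    rw [reassoc_of% e1]

/-- Transport of structure by `σ` on `H^n(P ×_k K, π⁻¹ G)` (short instances). -/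
noncomputable def galHH {P : Scheme.{u}} (b : P ⟶ Spec (CommRingCat.of k)) (σ : K ≃ₐ[k] K)
    (G : EtCoh.Ab P) (n : ℕ) : HH (FinFr.ext K b) ((EtCoh.pull (FinFr.extπ K b)).obj G) n →+
      HH (FinFr.ext K b) ((EtCoh.pull (FinFr.extπ K b)).obj G) n :=
  hpl (FinFr.galAct b σ) (th (FinFr.galAct b σ) (FinFr.extπ K b) (FinFr.extπ K b)
    (FinFr.galAct_fst b σ) G) n

theorem galHH_map {P : Scheme.{u}} (b : P ⟶ Spec (CommRingCat.of k)) (σ : K ≃ₐ[k] K)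
    {G H : EtCoh.Ab P} (a : G ⟶ H) (n : ℕ)
    (x : HH (FinFr.ext K b) ((EtCoh.pull (FinFr.extπ K b)).obj G) n) :
    galHH b σ H n (HHmap ((EtCoh.pull (FinFr.extπ K b)).map a) n x) =
      HHmap ((EtCoh.pull (FinFr.extπ K b)).map a) n (galHH b σ G n x) := by
  rw [galHH, galHH, hpl_map, map_hpl, th_nat]

/-- The pull-back map along `f × id`. -/
noncomputable def pbK (G : EtCoh.Ab P₂) (n : ℕ) :
    HH (FinFr.ext K b₂) ((EtCoh.pull (FinFr.extπ K b₂)).obj G) n →+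
      HH (FinFr.ext K b₁) ((EtCoh.pull (FinFr.extπ K b₁)).obj ((EtCoh.pull f).obj G)) n :=
  pb (FinFr.extHom K b₁ f w) (FinFr.extπ K b₂) (FinFr.extπ K b₁) f (FinFr.extπ K b₁ ≫ f)
    (FinFr.extHom_fst b₁ f w) rfl G n

theorem pbK_bijective_iff (G : EtCoh.Ab P₂) (n : ℕ) :
    Function.Bijective (pbK (K := K) f w G n) ↔
      Function.Bijective (hp (FinFr.extHom K b₁ f w) ((EtCoh.pull (FinFr.extπ K b₂)).obj G) n) :=
  pb_bijective_iff _ _ _ _ _ _ _ _ _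

theorem pbK_gal (σ : K ≃ₐ[k] K) (G : EtCoh.Ab P₂) (n : ℕ)
    (x : HH (FinFr.ext K b₂) ((EtCoh.pull (FinFr.extπ K b₂)).obj G) n) :
    pbK (K := K) f w G n (galHH b₂ σ G n x) =
      galHH b₁ σ ((EtCoh.pull f).obj G) n (pbK (K := K) f w G n x) :=
  pb_comm (FinFr.extHom K b₁ f w) (FinFr.extπ K b₂) (FinFr.extπ K b₁) f
    (FinFr.extπ K b₁ ≫ f) (FinFr.extHom_fst b₁ f w) rfl (FinFr.galAct b₁ σ) (FinFr.galAct b₂ σ)
    (FinFr.extHom K b₁ f w ≫ FinFr.galAct b₂ σ) (FinFr.galAct_fst b₁ σ) (FinFr.galAct_fst b₂ σ) rfl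
    (extHom_galAct f w σ) G n x

variable {Λ : Type} [CommRing Λ]

/-- Transport of structure by `σ`, `Λ`-linear. -/
noncomputable def galHL {P : Scheme.{u}} (b : P ⟶ Spec (CommRingCat.of k)) (σ : K ≃ₐ[k] K)
    (L : EtLam.Sheaf Λ P) (n : ℕ) :
    HHL (EtLam.pullback (FinFr.extπ K b) L) n →ₗ[Λ] HHL (EtLam.pullback (FinFr.extπ K b) L) n where
  toFun := galHH b σ L.carrier n
  map_add' x y := map_add (galHH b σ L.carrier n) x y
  map_smul' r x := galHH_map b σ (L.act r) n x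

/-- The pull-back map `H^n(P₂ ×_k K, π⁻¹ L) → H^n(P₁ ×_k K, π⁻¹ f⁻¹ L)` as a `Λ`-linear map. -/
noncomputable def pbL (L : EtLam.Sheaf Λ P₂) (n : ℕ) :
    HHL (EtLam.pullback (FinFr.extπ K b₂) L) n →ₗ[Λ]
      HHL (EtLam.pullback (FinFr.extπ K b₁) (EtLam.pullback f L)) n where
  toFun := pbK (K := K) f w L.carrier n
  map_add' x y := map_add (pbK (K := K) f w L.carrier n) x y
  map_smul' r x := pb_map (FinFr.extHom K b₁ f w) (FinFr.extπ K b₂) (FinFr.extπ K b₁) f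
    (FinFr.extπ K b₁ ≫ f) (FinFr.extHom_fst b₁ f w) rfl (L.act r) n x

theorem pbL_galHL (σ : K ≃ₐ[k] K) (L : EtLam.Sheaf Λ P₂) (n : ℕ)
    (x : HHL (EtLam.pullback (FinFr.extπ K b₂) L) n) :
    pbL (K := K) f w L n (galHL b₂ σ L n x) =
      galHL b₁ σ (EtLam.pullback f L) n (pbL (K := K) f w L n x) :=
  pbK_gal f w σ L.carrier n x

theorem pbL_bijective_iff (L : EtLam.Sheaf Λ P₂) (n : ℕ) :
    Function.Bijective (pbL (K := K) f w L n) ↔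
      Function.Bijective (hp (FinFr.extHom K b₁ f w) ((EtCoh.pull (FinFr.extπ K b₂)).obj L.carrier) n) :=
  pbK_bijective_iff f w L.carrier n

end Frob

end Groth.Agent.Sga4h.H915.FrobPull
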