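import Groth.Agent.Sga4h.H915.FrobBridge

/-!
# Similar endomorphisms

`Simi φ ψ`: the endomorphisms `φ` of `V` and `ψ` of `W` correspond under a linear isomorphism.
* `simi_iso`: transport of structure (`FinFr.galLin`, in particular the geometric Frobenius) for isomorphic
  `Λ`-sheaves;
* `simi_pullback`: for `f : P₁ ⟶ P₂` over `k` inducing an isomorphism on `H^n(-, π⁻¹ L)`.
-/

set_option autoImplicit false
universe u
open CategoryTheory CategoryTheory.Limits AlgebraicGeometry Opposite Abelian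
open scoped Groth.Agent.Etcore.EtInst
open Groth.Agent.Etcore.EtInst Groth.Agent.Etcore.PullCoh Groth.Agent.Etcore.HpullCalc
  Groth.Agent.Etcore.HC Groth.Agent.Etcore

namespace Groth.Agent.Sga4h.H915.Simi

open Groth.Agent.Sga4h.H915.FrobPull

section Lin

variable {Λ : Type*} [CommRing Λ] {V W U : Type*} [AddCommGroup V] [Module Λ V] [AddCommGroup W]
  [Module Λ W] [AddCommGroup U] [Module Λ U]

/-- `φ` and `ψ` correspond under a linear isomorphism. -/
def Simi (φ : V →ₗ[Λ] V) (ψ : W →ₗ[Λ] W) : Prop := ∃ e : V ≃ₗ[Λ] W, ∀ x, e (φ x) = ψ (e x)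

theorem Simi.refl (φ : V →ₗ[Λ] V) : Simi φ φ := ⟨LinearEquiv.refl Λ V, fun _ => rfl⟩

theorem Simi.symm {φ : V →ₗ[Λ] V} {ψ : W →ₗ[Λ] W} (h : Simi φ ψ) : Simi ψ φ := by
  obtain ⟨e, he⟩ := h
  refine ⟨e.symm, fun x => ?_⟩
  apply e.injective
  rw [he, LinearEquiv.apply_symm_apply, LinearEquiv.apply_symm_apply]

theorem Simi.trans {φ : V →ₗ[Λ] V} {ψ : W →ₗ[Λ] W} {χ : U →ₗ[Λ] U} (h : Simi φ ψ) (h' : Simi ψ χ) :
    Simi φ χ := by
  obtain ⟨e, he⟩ := h
  obtain ⟨e', he'⟩ := h'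
  exact ⟨e.trans e', fun x => by rw [LinearEquiv.trans_apply, LinearEquiv.trans_apply, he, he']⟩

theorem Simi.of_bijective {φ : V →ₗ[Λ] V} {ψ : W →ₗ[Λ] W} (f : V →ₗ[Λ] W)
    (hf : Function.Bijective f) (h : ∀ x, f (φ x) = ψ (f x)) : Simi φ ψ :=
  ⟨LinearEquiv.ofBijective f hf, h⟩

theorem Simi.pow {φ : V →ₗ[Λ] V} {ψ : W →ₗ[Λ] W} (h : Simi φ ψ) (m : ℕ) : Simi (φ ^ m) (ψ ^ m) := by
  obtain ⟨e, he⟩ := h
  refine ⟨e, fun x => ?_⟩
  induction m generalizing x with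
  | zero => rfl
  | succ m ih => rw [pow_succ, pow_succ, Module.End.mul_apply, Module.End.mul_apply, ih, he]

theorem Simi.trace_eq {φ : V →ₗ[Λ] V} {ψ : W →ₗ[Λ] W} (h : Simi φ ψ) :
    LinearMap.trace Λ V φ = LinearMap.trace Λ W ψ := by
  obtain ⟨e, he⟩ := h
  have h1 : φ = e.symm.conj ψ := by
    ext x
    rw [LinearEquiv.conj_apply_apply, LinearEquiv.symm_symm, ← he, LinearEquiv.symm_apply_apply]
  rw [h1, LinearMap.trace_conj']

end Lin

variable {Λ : Type} [CommRing Λ] {k : Type u} [Field k] {K : Type u} [Field K] [Algebra k K]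

section Short

variable {P : Scheme.{u}} (b : P ⟶ Spec (CommRingCat.of k))

theorem simi_iso' (σ : K ≃ₐ[k] K) {L L' : EtLam.Sheaf Λ P} (φ : L.carrier ⟶ L'.carrier) [IsIso φ]
    (h : LamFG.Equi L.act L'.act φ) (n : ℕ) : Simi (galHL b σ L n) (galHL b σ L' n) := by
  have h' : LamFG.Equi (EtLam.pullback (FinFr.extπ K b) L).act (EtLam.pullback (FinFr.extπ K b) L').act
      ((EtCoh.pull (FinFr.extπ K b)).map φ) := fun r => by
    have h1 := congrArg (EtCoh.pull (FinFr.extπ K b)).map (h r)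
    rw [Functor.map_comp, Functor.map_comp] at h1
    exact h1
  have : IsIso ((EtCoh.pull (FinFr.extπ K b)).map φ) := inferInstance
  refine Simi.of_bijective (mapL (L := EtLam.pullback (FinFr.extπ K b) L)
    (L' := EtLam.pullback (FinFr.extπ K b) L') ((EtCoh.pull (FinFr.extπ K b)).map φ) h' n)
    (HHmap_bijective ((EtCoh.pull (FinFr.extπ K b)).map φ) n) fun x => ?_
  exact (galHH_map b σ φ n x).symm

variable {P₁ P₂ : Scheme.{u}}
  {b₁ : P₁ ⟶ Spec (CommRingCat.of k)} {b₂ : P₂ ⟶ Spec (CommRingCat.of k)} (f : P₁ ⟶ P₂)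
  (w : f ≫ b₂ = b₁)

theorem simi_pullback' (σ : K ≃ₐ[k] K) (L : EtLam.Sheaf Λ P₂) (n : ℕ)
    (h : Function.Bijective (hp (FinFr.extHom K b₁ f w)
      ((EtCoh.pull (FinFr.extπ K b₂)).obj L.carrier) n)) :
    Simi (galHL b₂ σ L n) (galHL b₁ σ (EtLam.pullback f L) n) :=
  Simi.of_bijective (pbL (K := K) f w L n) ((pbL_bijective_iff f w L n).2 h)
    fun x => pbL_galHL f w σ L n x

end Short

variable [Fact FinFr.PullExact.{u}] {P : Scheme.{u}} (b : P ⟶ Spec (CommRingCat.of k))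

/-- The bridge to the short instances. -/
theorem simi_short (σ : K ≃ₐ[k] K) (L : EtLam.Sheaf Λ P) (n : ℕ) :
    Simi (FinFr.galLin b σ L n) (galHL b σ L n) :=
  ⟨{ brd (EtLam.pullback (FinFr.extπ K b) L) n with map_smul' := fun r x => brd_smul _ n r x },
    fun x => brd_galLin b σ L n x⟩

/-- Transport of structure for isomorphic sheaves. -/
theorem simi_iso (σ : K ≃ₐ[k] K) {L L' : EtLam.Sheaf Λ P} (φ : L.carrier ⟶ L'.carrier) [IsIso φ]
    (h : LamFG.Equi L.act L'.act φ) (n : ℕ) : Simi (FinFr.galLin b σ L n) (FinFr.galLin b σ L' n) :=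
  ((simi_short b σ L n).trans (simi_iso' b σ φ h n)).trans (simi_short b σ L' n).symm

variable {P₁ P₂ : Scheme.{u}}
  {b₁ : P₁ ⟶ Spec (CommRingCat.of k)} {b₂ : P₂ ⟶ Spec (CommRingCat.of k)} (f : P₁ ⟶ P₂)
  (w : f ≫ b₂ = b₁)

/-- Transport of structure and pull-back. -/
theorem simi_pullback (σ : K ≃ₐ[k] K) (L : EtLam.Sheaf Λ P₂) (n : ℕ)
    (h : Function.Bijective (hp (FinFr.extHom K b₁ f w)
      ((EtCoh.pull (FinFr.extπ K b₂)).obj L.carrier) n)) :
    Simi (FinFr.galLin b₂ σ L n) (FinFr.galLin b₁ σ (EtLam.pullback f L) n) :=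
  ((simi_short b₂ σ L n).trans (simi_pullback' f w σ L n h)).trans
    (simi_short b₁ σ (EtLam.pullback f L) n).symm

end Groth.Agent.Sga4h.H915.Simi
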